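import Cfsg.Agent.Lib.ClassSize2
import Cfsg.Agent.Lib.CoreTate
import Cfsg.Agent.Lib.CoprimePGroup
import Cfsg.Agent.Lib.SylowIn
import Cfsg.Agent.Lib.CoreSolvable
import Cfsg.Agent.Lib.CorePi

/-!
# Cosets contained in a conjugacy class

Reduction to the solvability of groups with a coprime fixed-point-free automorphism of prime power
order.
-/

set_option autoImplicit false

namespace CfsgLib.FP

open Subgroup Cfsg CfsgLib.PCompl
open scoped commutatorElement

universe u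

/-- coprime fixed-point-free automorphisms of prime power order force solvability -/
def FPFp : Prop := ∀ (X : Type u) [Group X] [Finite X] (G : Subgroup X) (a : X) (p k : ℕ),
  p.Prime → a ^ p ^ k = 1 → a ∈ normalizer (G : Set X) → ¬ p ∣ Nat.card G →
    G ⊓ centralizer ({a} : Set X) = ⊥ → Group.IsSolvable G

theorem hnpc_of_coset {G : Type*} [Group G] [Finite G] {p : ℕ} [hp : Fact p.Prime] (N : Subgroup G)
    [hN : N.Normal] {x : G} {k : ℕ} (hx : orderOf x = p ^ k)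
    (h : ∀ n ∈ N, ∃ g : G, g * x * g⁻¹ = x * n) : HasNormalPComplement p N := by
  let H := (centralizer ({(x : G ⧸ N)} : Set (G ⧸ N))).comap (QuotientGroup.mk' N)
  have hH : ∀ g, g ∈ H ↔ x⁻¹ * (g * x * g⁻¹) ∈ N := fun g => Frob.mem_comap_centralizer_mk N
  have hNH : N ≤ H := fun n hn => (hH n).2 (by
    have := mul_mem (hN.conj_mem n hn x⁻¹) (inv_mem hn)
    simpa [mul_assoc] using this)
  have hxH : x ∈ H := (hH x).2 (by simp)
  have h1 : (centralizer ({x} : Set G)).relIndex H = Nat.card N := by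
    rw [← Frob.ncard_conj_subgroup, ← Frob.ncard_coset N x]
    congr 1
    ext y
    constructor
    · rintro ⟨g, hg, rfl⟩
      exact ⟨_, (hH g).1 hg, by group⟩
    · rintro ⟨n, hn, rfl⟩
      obtain ⟨g, hg⟩ := h n hn
      exact ⟨g, (hH g).2 (by rw [hg]; simpa using hn), hg⟩
  obtain ⟨P, hxP, hP⟩ := IsSylowIn.exists_ge (isPGroup_zpowers_iff.2 ⟨k, hx⟩) (zpowers_le.2 hxH)
  replace hxP : x ∈ P := hxP (mem_zpowers x)
  have h2 : Nat.card (P ⊓ N : Subgroup G) ≤ (centralizer ({x} : Set G)).relIndex P := by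
    obtain ⟨i, hi⟩ := (hP.isPGroup.to_inf_right (H := centralizer ({x} : Set G))).exists_card_eq
    obtain ⟨j, hj⟩ := (hP.isPGroup.to_inf_left (K := N)).exists_card_eq
    have h3 : p ^ (i + j) ∣ Nat.card H := by
      rw [← card_inf_mul_relIndex (centralizer ({x} : Set G)) H, h1, pow_add, ← hi, ← hj]
      exact mul_dvd_mul (card_dvd_of_le (inf_le_inf_left _ hP.le)) (card_dvd_of_le inf_le_right)
    have h4 : p ^ (i + j) ≤ Nat.card P := by
      rw [hP.card_eq_ordProj]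
      exact Nat.pow_le_pow_right hp.out.pos ((hp.out.pow_dvd_iff_le_factorization
        Nat.card_pos.ne').1 h3)
    rw [← card_inf_mul_relIndex (centralizer ({x} : Set G)) P, pow_add, ← hi, ← hj] at h4
    exact Nat.le_of_mul_le_mul_left h4 Nat.card_pos
  have h3 : {y : G | ∃ u ∈ P, u * x * u⁻¹ = y} = {y : G | ∃ n ∈ P ⊓ N, x * n = y} := by
    refine Set.eq_of_subset_of_ncard_le ?_ (by
      rwa [Frob.ncard_conj_subgroup, Frob.ncard_coset])
    rintro _ ⟨u, hu, rfl⟩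
    exact ⟨x⁻¹ * (u * x * u⁻¹), mem_inf.2 ⟨mul_mem (inv_mem hxP)
      (mul_mem (mul_mem hu hxP) (inv_mem hu)), (hH u).1 (hP.le hu)⟩, by group⟩
  obtain ⟨Q, hQ⟩ := hP.exists_sylow
  refine (hnpc_subgroupOf_iff hNH).1 (hnpc_of_inf_le_frattini Q le_normalizer_of_normal
    fun s hs => Cop.commutator_le_frattini_map Q.isPGroup' ?_)
  have hsP : (s : G) ∈ P := by
    have := hs.2
    rwa [hQ] at this
  obtain ⟨u, hu, e⟩ := h3.ge (⟨s, ⟨hsP, hs.1⟩, rfl⟩ : x * s ∈ {y : G | ∃ n ∈ P ⊓ N, x * n = y})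
  have e' : s = ⁅(⟨x, hxH⟩ : H)⁻¹, ⟨u, hP.le hu⟩⁆ := Subtype.ext (by
    change (s : G) = x⁻¹ * u * x⁻¹⁻¹ * u⁻¹
    rw [inv_inv, mul_assoc, mul_assoc, ← mul_assoc u, e, inv_mul_cancel_left])
  rw [e']
  exact commutator_mem_commutator (inv_mem (hQ ▸ hxP)) (hQ ▸ hu)

theorem solvable_of_coset (hF : FPFp.{u}) {G : Type u} [Group G] [Finite G] {p : ℕ}
    [hp : Fact p.Prime] (N : Subgroup G) [hN : N.Normal] {x : G} {k : ℕ} (hx : orderOf x = p ^ k)
    (h : ∀ n ∈ N, ∃ g : G, g * x * g⁻¹ = x * n) : Group.IsSolvable N := by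
  have h1 := hnpc_of_coset N hx h
  have := pPrimeCore_characteristic (G := N) p
  have h2 : Group.IsSolvable ((pPrimeCore p N).map N.subtype) := by
    have hc : (Nat.card ((pPrimeCore p N).map N.subtype)).Coprime p := map_pPrimeCore_coprime p N
    refine hF G _ x p k hp.out (hx ▸ pow_orderOf_eq_one x) (le_normalizer_of_normal (mem_top x))
      ((Nat.Prime.coprime_iff_not_dvd hp.out).1 hc.symm) (eq_bot_iff.2 fun y hy => ?_)
    obtain ⟨g, hg⟩ := h y (map_subtype_le _ hy.1)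
    have h3 : Commute x y := (mem_centralizer_singleton_iff.1 hy.2).symm
    have h4 : (orderOf y).Coprime p := hc.coprime_dvd_left (Subgroup.orderOf_dvd_natCard _ hy.1)
    have h5 : orderOf (x * y) = p ^ k := by
      rw [← hg, ← hx]
      exact (MulAut.conj g).orderOf_eq x
    rw [h3.orderOf_mul_eq_mul_orderOf_of_coprime (hx ▸ (h4.symm.pow_left k)), hx] at h5
    exact mem_bot.2 (orderOf_eq_one_iff.1 ((Nat.mul_eq_left (pow_pos hp.out.pos k).ne').1 h5))
  refine isSolvable_of_normal_of_quotient (pPrimeCore p N) (isSolvable_map_subtype_iff.1 h2)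
    (isSolvable_of_isPGroup (isPGroup_of_hnpc_of_pPrimeCore_eq_bot (hnpc_quotient h1 _)
      (pPrimeCore_quotient_pPrimeCore p)))

/-- a `p`-element outside a proper normal subgroup -/
theorem exists_p_elem_notMem {G : Type*} [Group G] [Finite G] {N M : Subgroup G} [N.Normal]
    (h : ¬ M ≤ N) : ∃ p k : ℕ, p.Prime ∧ ∃ x ∈ M, x ∉ N ∧ orderOf x = p ^ k := by
  by_contra hn
  push Not at hn
  exact h (le_of_forall_primePow_mem fun x hx p k hp e => by
    by_contra hx'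
    exact hn p k hp x hx hx' e)

theorem camina (hF : FPFp.{u}) {G : Type u} [Group G] [Finite G] (N : Subgroup G) [N.Normal]
    (hN2 : N ≠ ⊤) (hcam : ∀ g : G, g ∉ N → ∀ n ∈ N, ∃ x : G, x * g * x⁻¹ = g * n) :
    (Group.IsSolvable (G ⧸ N) → Group.IsSolvable G) ∧ Group.IsSolvable N := by
  obtain ⟨p, k, hp, x, -, hxN, hx⟩ := exists_p_elem_notMem (M := ⊤) (N := N)
    fun h => hN2 (top_le_iff.1 h)
  have := Fact.mk hp
  have h := solvable_of_coset hF N hx (hcam x hxN)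
  exact ⟨isSolvable_of_normal_of_quotient N h, h⟩

theorem class_eq_diff (hF : FPFp.{u}) {G : Type u} [Group G] [Finite G] (N M : Subgroup G)
    [N.Normal] [M.Normal] (hNM : N < M) (g : G) (hgM : g ∈ M) (hgN : g ∉ N)
    (hcl : {h : G | IsConj g h} = (M : Set G) \ (N : Set G)) :
    ∃ p : ℕ, p.Prime ∧ (∃ k : ℕ, orderOf g = p ^ k) ∧ Group.IsSolvable M ∧
      ∃ K : Subgroup M, K.Normal ∧ (Nat.card K).Coprime p ∧ ∃ k : ℕ, K.index = p ^ k := by
  obtain ⟨p, k, hp, x, hxM, hxN, hx⟩ := exists_p_elem_notMem hNM.not_ge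
  have := Fact.mk hp
  have hall : ∀ y ∈ M, y ∉ N → orderOf y = orderOf g := fun y h1 h2 => by
    obtain ⟨c, rfl⟩ := isConj_iff.1 (hcl.ge (⟨h1, h2⟩ : y ∈ (M : Set G) \ (N : Set G)))
    exact (MulAut.conj c).orderOf_eq g
  have hg : orderOf g = p ^ k := (hall x hxM hxN).symm.trans hx
  have hc : ∀ n ∈ N, ∃ c : G, c * g * c⁻¹ = g * n := fun n hn =>
    isConj_iff.1 (hcl.ge (⟨mul_mem hgM (hNM.le hn), fun h => hgN ((mul_mem_cancel_right hn).1 h)⟩ :
      g * n ∈ (M : Set G) \ (N : Set G)))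
  have hq : IsPGroup p (M ⧸ N.subgroupOf M) := fun q => by
    obtain ⟨y, rfl⟩ := QuotientGroup.mk'_surjective _ q
    by_cases hy : (y : G) ∈ N
    · exact ⟨0, by rw [pow_zero, pow_one]; exact (QuotientGroup.eq_one_iff y).2 hy⟩
    · refine ⟨k, ?_⟩
      rw [← map_pow, ← hg, ← hall y y.2 hy, Subgroup.orderOf_coe, pow_orderOf_eq_one, map_one]
  refine ⟨p, hp, ⟨k, hg⟩, isSolvable_of_normal_of_quotient (N.subgroupOf M)
    (isSolvable_subgroupOf (solvable_of_coset hF N hg hc) M) (isSolvable_of_isPGroup hq),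
    hnpc_exists_normal (hnpc_of_normal_of_isPGroup_quotient (N.subgroupOf M) hq ?_)⟩
  exact (hnpc_subgroupOf_iff hNM.le).2 (hnpc_of_coset N hg hc)

end CfsgLib.FP
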