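import Cfsg.Agent.Lib.FP.Cam
import Cfsg.Agent.Lib.NF.Defs
import Cfsg.Agent.Lib.CO.Red

/-!
# Consequences of the theorem on operator groups without invariant classes of involutions
-/

set_option autoImplicit false

namespace CfsgLib.FP

open Subgroup Cfsg SemidirectProduct CfsgLib.PCompl

universe u v

/-- no invariant class of involutions forces solvability -/
def TGP : Prop := ∀ (X : Type u) [Group X] [Finite X] (G : Subgroup X) [G.Normal],
  HasNormalPComplement 2 (X ⧸ G) →
  (∀ t ∈ G, orderOf t = 2 → ∃ x : X, ∀ g ∈ G, x * t * x⁻¹ ≠ g * t * g⁻¹) → Group.IsSolvable G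

theorem L_top_eq_ker {G A : Type*} [Group G] [Group A] (φ : A →* MulAut G) :
    CopAut.L φ ⊤ = (rightHom : G ⋊[φ] A →* A).ker := by
  rw [← range_inl_eq_ker_rightHom, MonoidHom.range_eq_map]

theorem TGP.act (hT : TGP.{max u v}) {G : Type u} {A : Type v} [Group G] [Finite G] [Group A]
    [Finite A] (φ : A →* MulAut G) (hA : HasNormalPComplement 2 A)
    (h : ∀ t : G, orderOf t = 2 → ∃ a : A, ∀ g, φ a t ≠ g * t * g⁻¹) :
    Group.IsSolvable G := by
  have hfin := CopAut.finite_semidirect (φ := φ)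
  refine NF.solvable_of_L (φ := φ) ?_
  rw [L_top_eq_ker]
  refine hT _ _ (hnpc_of_mulEquiv hA
    (QuotientGroup.quotientKerEquivOfSurjective _ rightHom_surjective).symm) ?_
  rw [← L_top_eq_ker]
  rintro _ ⟨t, -, rfl⟩ ht
  obtain ⟨a, ha⟩ := h t ((orderOf_injective _ inl_injective t).symm.trans ht)
  refine ⟨inr a, ?_⟩
  rintro _ ⟨g, -, rfl⟩ e
  rw [CopAut.inr_conj_inl, ← map_inv, ← map_mul, ← map_mul, inl_inj] at e
  exact ha g e

theorem pow_inl_mul_inr {G A : Type*} [Group G] [Group A] (φ : A →* MulAut G) (x : G) (a : A)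
    (k : ℕ) : ((inl x : G ⋊[φ] A) * inr a) ^ k =
      inl (((List.range k).map (fun i : ℕ => ((φ a) ^ i) x)).prod) * inr (a ^ k) := by
  induction k with
  | zero => simp
  | succ k ih =>
    rw [pow_succ, ih, List.range_succ, List.map_append, List.prod_append, List.map_singleton,
      List.prod_singleton, map_mul, ← map_pow φ, inl_aut, pow_succ, map_mul, map_inv]
    group

/-- splitting automorphisms of odd order -/
theorem splitting (hT : TGP.{u}) {G : Type u} [Group G] [Finite G] (α : MulAut G)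
    (hodd : Odd (orderOf α))
    (hsplit : ∀ x : G, (((List.range (orderOf α)).map (fun i : ℕ => (α ^ i) x)).prod = 1)) :
    Group.IsSolvable G := by
  let φ := (zpowers α).subtype
  refine hT.act φ (by letI := IsCyclic.commGroup (α := zpowers α); exact hnpc_of_isNilpotent)
    fun t ht => ⟨⟨α, mem_zpowers α⟩, fun g e => ?_⟩
  let a : zpowers α := ⟨α, mem_zpowers α⟩
  have h1 : ∀ x : G, ((inl x : G ⋊[φ] zpowers α) * inr a) ^ orderOf α = 1 := fun x => by
    rw [pow_inl_mul_inr]
    have : a ^ orderOf α = 1 := Subtype.ext (pow_orderOf_eq_one α)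
    rw [this, map_one, mul_one]
    exact (congrArg inl (hsplit x)).trans (map_one _)
  have h2 : Commute (inl t : G ⋊[φ] zpowers α) (inl g⁻¹ * inr a) := by
    have := CopAut.inr_conj_inl (φ := φ) a t
    rw [show φ a t = g * t * g⁻¹ from e, map_mul, map_mul, map_inv, mul_inv_eq_iff_eq_mul] at this
    rw [Commute, SemiconjBy, mul_assoc, this, map_inv]
    group
  have h3 := h1 (t * g⁻¹)
  rw [map_mul, mul_assoc, h2.mul_pow, h1, mul_one, ← map_pow, ← map_one inl, inl_inj,
    ← orderOf_dvd_iff_pow_eq_one, ht] at h3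
  exact (Nat.not_even_iff_odd.2 hodd) (even_iff_two_dvd.2 h3)

theorem exists_fpf_conj {G : Type*} [Group G] [Finite G] (β : MulAut G) (C : Subgroup G)
    (hC : ∀ c ∈ C, β c ∈ C) (hf : ∀ c ∈ C, β c = c → c = 1) {c : G} (hc : c ∈ C) :
    ∃ z ∈ C, z⁻¹ * β z = c := by
  let f : C → C := fun z => ⟨(z : G)⁻¹ * β z, mul_mem (inv_mem z.2) (hC _ z.2)⟩
  have : Function.Injective f := fun y z e => by
    have e' : (y : G)⁻¹ * β y = (z : G)⁻¹ * β z := congrArg Subtype.val e
    have := hf ((y : G) * (z : G)⁻¹) (C.mul_mem y.2 (C.inv_mem z.2)) (by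
      rw [map_mul, map_inv, ← mul_right_inj (y : G)⁻¹, ← mul_assoc, e']; group)
    exact Subtype.ext (mul_inv_eq_one.1 this)
  obtain ⟨z, hz⟩ := Finite.surjective_of_injective this ⟨c, hc⟩
  exact ⟨z, z.2, congrArg Subtype.val hz⟩

/-- fixed-point-free operator groups which are cyclic modulo a coprime normal subgroup -/
theorem cyclic_mod (hT : TGP.{max u v}) {G : Type u} {A : Type v} [Group G] [Finite G] [Group A]
    [Finite A] (φ : A →* MulAut G) (hfpf : ∀ g : G, (∀ a : A, φ a g = g) → g = 1)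
    (K : Subgroup A) [hK : K.Normal] (hcop : (Nat.card K).Coprime (Nat.card G)) (b : A)
    (hb : K ⊔ zpowers b = ⊤) : Group.IsSolvable G := by
  by_cases hG : Odd (Nat.card G)
  · exact FT.feit_thompson hG
  have hKo : Odd (Nat.card K) := Nat.coprime_two_right.1 (Nat.Coprime.coprime_dvd_right
    (even_iff_two_dvd.1 (Nat.not_odd_iff_even.1 hG)) hcop)
  have hcyc : IsCyclic (A ⧸ K) := by
    refine isCyclic_iff_exists_zpowers_eq_top.2 ⟨(b : A ⧸ K), ?_⟩
    have := congrArg (Subgroup.map (QuotientGroup.mk' K)) hb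
    rwa [Subgroup.map_sup, (map_eq_bot_iff K).2 (QuotientGroup.ker_mk' K).ge, bot_sup_eq,
      map_top_of_surjective _ (QuotientGroup.mk'_surjective K), MonoidHom.map_zpowers] at this
  refine hT.act φ (hnpc_of_quotient_coprime K (Nat.coprime_two_right.2 hKo) (by
    letI := IsCyclic.commGroup (α := A ⧸ K); exact hnpc_of_isNilpotent)) fun t ht => ?_
  by_contra hcon
  push Not at hcon
  let ψ := φ.comp K.subtype
  have hs : Group.IsSolvable K ∨ Group.IsSolvable G := Or.inl (FT.feit_thompson hKo)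
  obtain ⟨g, hg⟩ := CopAut.exists_conj_fixed (φ := ψ) hcop hs (x := t) fun a => hcon a
  have hC : ∀ c ∈ CopAut.fixed ψ, φ b c ∈ CopAut.fixed ψ := fun c hc k => by
    have := hc ⟨b⁻¹ * k * b⁻¹⁻¹, hK.conj_mem _ k.2 _⟩
    change φ (b⁻¹ * k * b⁻¹⁻¹) c = c at this
    change φ k (φ b c) = φ b c
    conv_rhs => rw [← this]
    rw [← MulAut.mul_apply, ← MulAut.mul_apply, ← map_mul, ← map_mul]
    congr 2; group
  have hf : ∀ c ∈ CopAut.fixed ψ, φ b c = c → c = 1 := fun c hc e => hfpf c fun a => by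
    have : K ⊔ zpowers b ≤ (MulAction.stabilizer (MulAut G) c).comap φ :=
      sup_le (fun k hk => hc ⟨k, hk⟩) (zpowers_le.2 e)
    exact this (hb ▸ mem_top a)
  obtain ⟨y, hy⟩ := hcon b
  obtain ⟨c, hc, e⟩ := CopAut.exists_fixed_conj_elem (φ := ψ) hcop hs hg (hC _ hg)
    (g := φ b g * y * g⁻¹) (by rw [map_mul, map_mul, map_inv, hy]; group)
  obtain ⟨z, hz, e2⟩ := exists_fpf_conj (φ b) _ hC hf (inv_mem hc)
  have := hf (z * (g * t * g⁻¹) * z⁻¹) (mul_mem (mul_mem hz hg) (inv_mem hz)) (by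
    rw [map_mul, map_mul, map_inv, ← e, show φ b z = z * c⁻¹ by rw [← e2]; group]; group)
  rw [mul_inv_eq_one, mul_eq_left, mul_inv_eq_one, mul_eq_left] at this
  rw [this, orderOf_one] at ht
  exact absurd ht (by decide)

theorem cyclic_hall (hT : TGP.{max u v}) {G : Type u} {A : Type v} [Group G] [Finite G]
    [Group A] [Finite A] (φ : A →* MulAut G) (hfpf : ∀ g : G, (∀ a : A, φ a g = g) → g = 1)
    (hHall : ∃ H : Subgroup A, Cfsg.IsPiHall {r : ℕ | r.Prime ∧ r ∣ Nat.card G} H ∧ IsCyclic H)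
    (hcomp : ∃ K : Subgroup A, K.Normal ∧ (∀ r : ℕ, r.Prime → r ∣ Nat.card K → ¬ r ∣ Nat.card G) ∧
      ∀ r : ℕ, r.Prime → r ∣ K.index → r ∣ Nat.card G) :
    Group.IsSolvable G := by
  obtain ⟨H, hH, hc⟩ := hHall
  obtain ⟨K, hK, h1, h2⟩ := hcomp
  obtain ⟨b, hb⟩ := H.isCyclic_iff_exists_zpowers_eq_top.1 hc
  refine cyclic_mod hT φ hfpf K (Nat.coprime_of_dvd h1) b ?_
  rw [hb, ← index_eq_one]
  by_contra h0
  obtain ⟨r, hr, hd⟩ := Nat.exists_prime_and_dvd h0
  exact hH.2 r hr ⟨hr, h2 r hr (hd.trans (index_dvd_of_le le_sup_left))⟩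
    (hd.trans (index_dvd_of_le le_sup_right))

/-- coprime operator groups with fixed points of odd order -/
theorem coprime_odd (hT : TGP.{max u v}) {G : Type u} {A : Type v} [Group G] [Finite G] [Group A]
    [Finite A] (φ : A →* MulAut G) (hcop : (Nat.card A).Coprime (Nat.card G))
    (h : Odd (Nat.card (CopAut.fixed φ))) : Group.IsSolvable G := by
  by_cases hG : Odd (Nat.card G)
  · exact FT.feit_thompson hG
  have hA : (Nat.card A).Coprime 2 := Nat.Coprime.coprime_dvd_right
    (even_iff_two_dvd.1 (Nat.not_odd_iff_even.1 hG)) hcop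
  refine hT.act φ (hnpc_of_normal ⊤ (k := 0) (by rwa [card_top]) index_top) fun t ht => ?_
  by_contra hcon
  push Not at hcon
  obtain ⟨g, hg⟩ := CopAut.exists_conj_fixed hcop
    (Or.inl (FT.feit_thompson (Nat.coprime_two_right.1 hA))) hcon
  have := orderOf_dvd_natCard _ hg
  rw [show g * t * g⁻¹ = MulAut.conj g t from rfl, MulEquiv.orderOf_eq, ht] at this
  exact Nat.not_even_iff_odd.2 h (even_iff_two_dvd.2 this)

/-- nilpotent fixed-point-free operator groups -/
theorem nf_sol (hT : TGP.{u}) : NF.Sol.{u} := by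
  intro X _ _ G F h
  let L := G ⊔ F
  have hn : (G.subgroupOf L).Normal := normal_subgroupOf_of_le_normalizer h.sup_le_norm
  have c := h.subgroupOf (L := L) le_sup_right
  have htop : G.subgroupOf L ⊔ F.subgroupOf L = ⊤ := by
    rw [← subgroupOf_sup le_sup_left le_sup_right, subgroupOf_self]
  have key := hT L (G.subgroupOf L) (by
    have := c.nil
    refine hnpc_of_surjective (G := F.subgroupOf L) hnpc_of_isNilpotent
      ((QuotientGroup.mk' _).comp (F.subgroupOf L).subtype) fun q => ?_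
    obtain ⟨x, rfl⟩ := QuotientGroup.mk_surjective q
    obtain ⟨g, hg, f, hf, rfl⟩ := mem_sup_of_normal_left.1 (htop ▸ mem_top x)
    refine ⟨⟨f, hf⟩, ?_⟩
    change (f : L ⧸ G.subgroupOf L) = _
    rw [QuotientGroup.mk_mul, (QuotientGroup.eq_one_iff g).2 hg, one_mul]) fun t htG ht => by
    by_contra hcon
    push Not at hcon
    obtain ⟨g, hg, e⟩ := c.gl (centralizer {t}) ⟨htop ▸ le_top, fun f _ => by
      obtain ⟨g, hg, e⟩ := hcon f
      have : g⁻¹ * f ∈ centralizer {t} := mem_centralizer_singleton_iff.2 (by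
        rw [mul_inv_eq_iff_eq_mul] at e
        rw [mul_assoc, e]; group)
      simpa using mul_mem (mem_sup_left hg : g ∈ G.subgroupOf L ⊔ centralizer {t})
        (mem_sup_right this)⟩
    have : g⁻¹ * t * g ∈ G.subgroupOf L ⊓ centralizer (F.subgroupOf L : Set L) :=
      ⟨(G.subgroupOf L).mul_mem (mul_mem (inv_mem hg) htG) hg, fun f hf => by
        have := mem_centralizer_singleton_iff.1 (e (mem_map_of_mem _ hf))
        change g * f * g⁻¹ * t = t * (g * f * g⁻¹) at this
        calc f * (g⁻¹ * t * g) = g⁻¹ * (g * f * g⁻¹ * t) * g := by group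
          _ = _ := by rw [this]; group⟩
    rw [c.fpf, mem_bot, mul_eq_one_iff_eq_inv, mul_eq_left] at this
    rw [this, orderOf_one] at ht
    exact absurd ht (by decide)
  exact solvable_of_surjective (f := (subgroupOfEquivOfLe (le_sup_left : G ≤ L)).toMonoidHom)
    (MulEquiv.surjective _)

end CfsgLib.FP
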